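import Mathlib

/-!
Inertia and wild inertia at a maximal ideal of a Dedekind domain with separable residue extension.
-/

set_option autoImplicit false
universe u v w
open scoped Pointwise

namespace Groth.Agent.WildInertiaLib

variable {A : Type u} {B : Type v} {G : Type w} [CommRing A] [IsDomain A] [CommRing B] [IsDomain B]
  [IsDedekindDomain B] [Algebra A B] [Group G] [Finite G] [MulSemiringAction G B] [IsGaloisGroup G A B]

section Basic

variable (m : Ideal B) [m.IsMaximal] (hm : m ≠ ⊥)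

theorem smul_algebraMap (σ : G) (a : A) : σ • algebraMap A B a = algebraMap A B a := by
  have := IsGaloisGroup.commutes (G := G) (A := A) (B := B)
  rw [Algebra.algebraMap_eq_smul_one, smul_comm, smul_one]

omit [IsDedekindDomain B] in
theorem smul_mem {σ : G} (hσ : σ ∈ m.inertia G) {x : B} (hx : x ∈ m) : σ • x ∈ m := by
  simpa using add_mem (hσ x) hx

include hm in
theorem exists_unif : ∃ π, π ∈ m ∧ π ∉ m ^ 2 :=
  SetLike.exists_of_lt ((Ideal.pow_succ_lt_pow hm 1).trans_eq (pow_one m))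

/-- The class of `σ π / π`. -/
theorem exists_theta {π : B} (hπ : π ∈ m) (hπ2 : π ∉ m ^ 2) (hm : m ≠ ⊥) :
    ∃ θ : m.inertia G →* (B ⧸ m)ˣ, ∀ σ : m.inertia G,
      (θ σ = 1 ↔ (σ : G) • π - π ∈ m ^ 2) := by
  have hex : ∀ σ : m.inertia G, ∃ c : B, (σ : G) • π - π * c ∈ m ^ 2 := by
    intro σ
    obtain ⟨d, e, he, hde⟩ := Ideal.exists_mul_add_mem_pow_succ hm (i := 1) π ((σ : G) • π)
      (by rwa [pow_one]) hπ2 (by rw [pow_one]; exact smul_mem m σ.2 hπ)
    exact ⟨d, by rw [← hde, add_sub_cancel_left]; exact he⟩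
  choose c hc using hex
  have huniq : ∀ (σ : m.inertia G) (d : B), (σ : G) • π - π * d ∈ m ^ 2 →
      Ideal.Quotient.mk m d = Ideal.Quotient.mk m (c σ) := by
    intro σ d hd
    rw [Ideal.Quotient.eq]
    refine Ideal.mem_prime_of_mul_mem_pow hm (i := 1) hπ2 ?_
    have := sub_mem (hc σ) hd
    convert this using 1
    ring
  let θ₀ : m.inertia G →* B ⧸ m :=
    { toFun := fun σ => Ideal.Quotient.mk m (c σ)
      map_one' := by
        rw [← huniq 1 1 (by simp), map_one]
      map_mul' := fun σ τ => by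
        rw [← map_mul]
        refine (huniq (σ * τ) _ ?_).symm
        have h1 : ((σ : G) • π) * ((σ : G) • c τ - c τ) ∈ m ^ 2 := by
          rw [pow_two]; exact Ideal.mul_mem_mul (smul_mem m σ.2 hπ) (σ.2 (c τ))
        have h2 : (σ : G) • ((τ : G) • π - π * c τ) ∈ m ^ 2 := by
          refine Submodule.pow_induction_on_left' (C := fun n x _ => (σ : G) • x ∈ m ^ n) m
            (fun r => by simp) (fun x y i _ _ hx hy => by rw [smul_add]; exact add_mem hx hy)
            (fun x hx i y _ hy => by rw [smul_mul', pow_succ']; exact Ideal.mul_mem_mul (smul_mem m σ.2 hx) hy)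
            (hc τ)
        have h3 : ((σ : G) • π - π * c σ) * c τ ∈ m ^ 2 := Ideal.mul_mem_right _ _ (hc σ)
        have := add_mem (add_mem h1 h2) h3
        convert this using 1
        rw [Subgroup.coe_mul, mul_smul, smul_sub, smul_mul']
        ring }
  refine ⟨θ₀.toHomUnits, fun σ => ?_⟩
  rw [Units.ext_iff, MonoidHom.coe_toHomUnits, Units.val_one]
  constructor
  · intro h
    change Ideal.Quotient.mk m (c σ) = Ideal.Quotient.mk m 1 at h
    have h' : π * (c σ - 1) ∈ m ^ 2 := by
      rw [pow_two]; exact Ideal.mul_mem_mul hπ (Ideal.Quotient.eq.1 h)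
    have := add_mem (hc σ) h'
    convert this using 1
    ring
  · intro h
    change Ideal.Quotient.mk m (c σ) = 1
    rw [← huniq σ 1 (by rwa [mul_one]), map_one]

theorem smul_sub_mem_sq {σ : G} (hσ : σ ∈ m.inertia G) {x : B} (hx : x ∈ m ^ 2) :
    σ • x - x ∈ m ^ 2 := by
  refine sub_mem ?_ hx
  exact Submodule.pow_induction_on_left' (C := fun n x _ => σ • x ∈ m ^ n) m
    (fun r => by simp) (fun x y i _ _ hx hy => by rw [smul_add]; exact add_mem hx hy)
    (fun x hx i y _ hy => by rw [smul_mul', pow_succ']; exact Ideal.mul_mem_mul (smul_mem m hσ hx) hy)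
    hx

/-- With separable residue extension, triviality on `π` mod `m²` gives triviality mod `m²`. -/
theorem mem_inertia_sq (p : Ideal A) [p.IsMaximal] [m.LiesOver p]
    [Algebra.IsSeparable (A ⧸ p) (B ⧸ m)] (hm : m ≠ ⊥) {π : B} (hπ : π ∈ m) (hπ2 : π ∉ m ^ 2)
    {σ : G} (hσ : σ ∈ m.inertia G) (hσπ : σ • π - π ∈ m ^ 2) (b : B) : σ • b - b ∈ m ^ 2 := by
  letI := Ideal.Quotient.field m
  letI := Ideal.Quotient.field p
  have hex : ∀ b : B, ∃ c : B, σ • b - b - π * c ∈ m ^ 2 := by
    intro b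
    obtain ⟨d, e, he, hde⟩ := Ideal.exists_mul_add_mem_pow_succ hm (i := 1) π (σ • b - b)
      (by rwa [pow_one]) hπ2 (by rw [pow_one]; exact hσ b)
    exact ⟨d, by rw [← hde, add_sub_cancel_left]; exact he⟩
  choose c hc using hex
  have huniq : ∀ (b d : B), σ • b - b - π * d ∈ m ^ 2 →
      Ideal.Quotient.mk m d = Ideal.Quotient.mk m (c b) := by
    intro b d hd
    rw [Ideal.Quotient.eq]
    refine Ideal.mem_prime_of_mul_mem_pow hm (i := 1) hπ2 ?_
    have := sub_mem (hc b) hd
    convert this using 1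
    ring
  have hadd : ∀ x y, Ideal.Quotient.mk m (c (x + y)) = Ideal.Quotient.mk m (c x) + Ideal.Quotient.mk m (c y) := by
    intro x y
    rw [← map_add]
    refine (huniq _ _ ?_).symm
    have := add_mem (hc x) (hc y)
    convert this using 1
    rw [smul_add]
    ring
  have hmul : ∀ x y, Ideal.Quotient.mk m (c (x * y)) =
      Ideal.Quotient.mk m (x * c y + y * c x) := by
    intro x y
    refine (huniq _ _ ?_).symm
    have h3 : (σ • x - x) * (σ • y - y) ∈ m ^ 2 := by rw [pow_two]; exact Ideal.mul_mem_mul (hσ x) (hσ y)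
    have := add_mem (add_mem (Ideal.mul_mem_left _ x (hc y)) (Ideal.mul_mem_left _ y (hc x))) h3
    convert this using 1
    rw [smul_mul']
    ring
  have hm0 : ∀ x ∈ m, Ideal.Quotient.mk m (c x) = 0 := by
    intro x hx
    rw [← map_zero (Ideal.Quotient.mk m)]
    refine (huniq _ _ ?_).symm
    obtain ⟨d, e, he, hde⟩ := Ideal.exists_mul_add_mem_pow_succ hm (i := 1) π x (by rwa [pow_one]) hπ2
      (by rwa [pow_one])
    rw [mul_zero, sub_zero, ← hde, smul_add, smul_mul']
    have h1 : (σ • π - π) * (σ • d) ∈ m ^ 2 := Ideal.mul_mem_right _ _ hσπ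
    have h2 : π * (σ • d - d) ∈ m ^ 2 := by rw [pow_two]; exact Ideal.mul_mem_mul hπ (hσ d)
    have := add_mem (add_mem h1 h2) (smul_sub_mem_sq m hσ he)
    convert this using 1
    ring
  let D₀ : B →ₗ[A] B ⧸ m :=
    { toFun := fun x => Ideal.Quotient.mk m (c x)
      map_add' := hadd
      map_smul' := fun a x => by
        have hca : Ideal.Quotient.mk m (c (algebraMap A B a)) = 0 := by
          rw [← map_zero (Ideal.Quotient.mk m)]
          refine (huniq _ _ ?_).symm
          simp [smul_algebraMap]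
        show Ideal.Quotient.mk m (c (a • x)) = a • Ideal.Quotient.mk m (c x)
        rw [Algebra.smul_def, hmul, map_add, map_mul, map_mul, hca, mul_zero, add_zero, Algebra.smul_def]
        rfl }
  let D₁ : (B ⧸ m) →ₗ[A] B ⧸ m :=
    (Submodule.liftQ (m.restrictScalars A) D₀ fun x hx => hm0 x hx) ∘ₗ
      (Submodule.Quotient.restrictScalarsEquiv A m).symm.toLinearMap
  have hD₁ : ∀ x : B, D₁ (Ideal.Quotient.mk m x) = Ideal.Quotient.mk m (c x) := fun x => rfl
  let D : Derivation A (B ⧸ m) (B ⧸ m) := Derivation.mk' D₁ fun x y => by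
    obtain ⟨x, rfl⟩ := Ideal.Quotient.mk_surjective x
    obtain ⟨y, rfl⟩ := Ideal.Quotient.mk_surjective y
    rw [← map_mul, hD₁, hD₁, hD₁, hmul, map_add, map_mul, map_mul, smul_eq_mul, smul_eq_mul]
  haveI : Algebra.EssFiniteType (A ⧸ p) (B ⧸ m) := by
    haveI : Module.Finite (A ⧸ p) (B ⧸ m) := Ideal.Quotient.finite_of_isInvariant G p m
    infer_instance
  haveI : Algebra.FormallyUnramified (A ⧸ p) (B ⧸ m) := Algebra.FormallyUnramified.of_isSeparable _ _
  haveI : Algebra.FormallyUnramified A (B ⧸ m) := Algebra.FormallyUnramified.comp A (A ⧸ p) (B ⧸ m)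
  have hD : D (Ideal.Quotient.mk m b) = 0 := by
    rw [← Derivation.liftKaehlerDifferential_comp_D D,
      Subsingleton.elim (KaehlerDifferential.D A (B ⧸ m) (Ideal.Quotient.mk m b)) 0, map_zero]
  change D₁ _ = 0 at hD
  rw [hD₁, Ideal.Quotient.eq_zero_iff_mem] at hD
  have h4 : π * c b ∈ m ^ 2 := by rw [pow_two]; exact Ideal.mul_mem_mul hπ hD
  simpa using add_mem (hc b) h4

omit [IsDedekindDomain B] in
theorem smul_sub_mem_succ {σ : G} {i : ℕ} (hi : 2 ≤ i) (h : ∀ b : B, σ • b - b ∈ m ^ i) {x : B}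
    (hx : x ∈ m ^ i) : σ • x - x ∈ m ^ (i + 1) := by
  obtain ⟨i, rfl⟩ : ∃ j, i = j + 1 := ⟨i - 1, by omega⟩
  rw [pow_succ] at hx
  refine Submodule.mul_induction_on hx (fun y hy z hz => ?_) (fun y z hy hz => ?_)
  · have hσz : σ • z ∈ m := by
      have := add_mem (Ideal.pow_le_self (by omega) (h z)) hz
      simpa using this
    have h1 : (σ • y - y) * σ • z ∈ m ^ (i + 1 + 1) := by
      rw [pow_succ m (i + 1)]; exact Ideal.mul_mem_mul (h y) hσz
    have h2 : y * (σ • z - z) ∈ m ^ (i + 1 + 1) :=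
      Ideal.pow_le_pow_right (show i + 1 + 1 ≤ i + (i + 1) by omega) (by rw [pow_add]; exact Ideal.mul_mem_mul hy (h z))
    have := add_mem h1 h2
    convert this using 1
    rw [smul_mul']
    ring
  · have := add_mem hy hz
    convert this using 1
    rw [smul_add]
    ring

include hm in
/-- An element of the wild inertia of order prime to the residue characteristic is trivial. -/
theorem eq_one_of_pow_eq_one [FaithfulSMul G B] {σ : G} (hσ : ∀ b : B, σ • b - b ∈ m ^ 2) {n : ℕ}
    (hn : σ ^ n = 1) (hn' : (n : B ⧸ m) ≠ 0) : σ = 1 := by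
  have key : ∀ i, 2 ≤ i → ∀ b : B, σ • b - b ∈ m ^ i := by
    intro i hi
    induction i, hi using Nat.le_induction with
    | base => exact hσ
    | succ i hi ih =>
      intro b
      have hk : ∀ k : ℕ, σ ^ k • b - b - k • (σ • b - b) ∈ m ^ (i + 1) := by
        intro k
        induction k with
        | zero => simp
        | succ k hk =>
          have h1 : σ • (σ ^ k • b - b) - (σ ^ k • b - b) ∈ m ^ (i + 1) := by
            refine smul_sub_mem_succ m hi ih ?_
            have := add_mem (Ideal.pow_le_pow_right (Nat.le_succ i) hk) (nsmul_mem (ih b) k)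
            simpa using this
          have := add_mem h1 hk
          convert this using 1
          simp only [pow_succ', mul_smul, smul_sub, succ_nsmul]
          abel
      have h0 := hk n
      rw [hn, one_smul, sub_self, zero_sub, neg_mem_iff, nsmul_eq_mul] at h0
      by_contra hb
      refine hn' ?_
      rw [show ((n : B ⧸ m)) = Ideal.Quotient.mk m (n : B) from (map_natCast _ n).symm,
        Ideal.Quotient.eq_zero_iff_mem]
      exact Ideal.mem_prime_of_mul_mem_pow hm hb (by rw [mul_comm]; exact h0)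
  have hfix : ∀ b : B, σ • b = b := by
    intro b
    have h : σ • b - b ∈ (⨅ i : ℕ, m ^ i) := Submodule.mem_iInf _ |>.2 fun i =>
      Ideal.pow_le_pow_right (le_add_right le_rfl) (key (i + 2) (by omega) b)
    rw [Ideal.iInf_pow_eq_bot_of_isDomain (I := m) (Ideal.IsPrime.ne_top inferInstance), Submodule.mem_bot, sub_eq_zero] at h
    exact h
  exact eq_of_smul_eq_smul fun b => (hfix b).trans (one_smul G b).symm

theorem card_inertia [Module.Finite A B] [Module.Flat A B] (p : Ideal A) [p.IsMaximal] [m.LiesOver p]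
    [Algebra.IsSeparable (A ⧸ p) (B ⧸ m)] : Nat.card (m.inertia G) = m.ramificationIdx A := by
  letI := Ideal.Quotient.field m
  letI := Ideal.Quotient.field p
  haveI : IsGalois (A ⧸ p) (B ⧸ m) := { __ := Ideal.Quotient.normal G p m }
  have h1 : Nat.card (MulAction.stabilizer G m) = Nat.card (m.inertia G) * m.inertiaDeg A := by
    have : Subgroup.index _ = _ := Nat.card_congr (Ideal.Quotient.stabilizerQuotientInertiaEquiv G p m).toEquiv
    rw [Ideal.inertiaDeg_eq_of_isMaximal p m, ← IsGalois.card_aut_eq_finrank (A ⧸ p) (B ⧸ m), ← this,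
      ← ((m.inertia G).subgroupOf (MulAction.stabilizer G m)).card_mul_index,
      Nat.card_congr (Subgroup.subgroupOfEquivOfLe (Ideal.inertia_le_stabilizer (M := G) m)).toEquiv,
      AddSubgroup.subgroupOf_inertia]
  have h2 : (p.primesOver B).ncard * Nat.card (MulAction.stabilizer G m) = Nat.card G := by
    rw [← Algebra.IsInvariant.orbit_eq_primesOver A B G p m]
    simpa using Nat.card_congr (MulAction.orbitProdStabilizerEquivGroup G m)
  have h3 := Ideal.ncard_primesOver_mul_ramificationIdxIn_mul_inertiaDegIn p B G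
  rw [Ideal.ramificationIdxIn_eq_ramificationIdx p m G, Ideal.inertiaDegIn_eq_inertiaDeg p m G] at h3
  rw [← h2, h1] at h3
  have hpos : 0 < Nat.card G := Nat.card_pos
  rw [← h2, h1] at hpos
  have hp0 : (p.primesOver B).ncard ≠ 0 := by intro h; rw [h, zero_mul] at hpos; exact lt_irrefl 0 hpos
  exact (Nat.eq_of_mul_eq_mul_right (Ideal.inertiaDeg_pos m A) (Nat.eq_of_mul_eq_mul_left (Nat.pos_of_ne_zero hp0) h3)).symm

end Basic

/-- The structure of inertia modulo wild inertia. -/
theorem main (p : Ideal A) [p.IsMaximal] (m : Ideal B) [m.IsMaximal] [m.LiesOver p] (hm : m ≠ ⊥)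
    [Module.Finite A B] [Module.Flat A B] [Algebra.IsSeparable (A ⧸ p) (B ⧸ m)] :
    let D : Subgroup G := MulAction.stabilizer G m
    let I : Subgroup G := m.inertia G
    let P : Subgroup G := D ⊓ (m ^ 2).inertia G
    let e : ℕ := m.ramificationIdx A
    P ≤ I ∧ I ≤ D ∧ (P.subgroupOf D).Normal ∧
    (∀ q : ℕ, q.Prime → CharP (A ⧸ p) q → IsPGroup q P) ∧
    (CharZero (A ⧸ p) → P = ⊥) ∧
    (∀ [(P.subgroupOf I).Normal],
      IsCyclic (I ⧸ P.subgroupOf I) ∧
      (∀ q : ℕ, q.Prime → CharP (A ⧸ p) q → Nat.card (I ⧸ P.subgroupOf I) = e / q ^ e.factorization q) ∧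
      (CharZero (A ⧸ p) → Nat.card (I ⧸ P.subgroupOf I) = e) ∧
      Nonempty (I ⧸ P.subgroupOf I ≃* ↥(rootsOfUnity e (B ⧸ m)))) := by
  intro D I P e
  letI := Ideal.Quotient.field m
  letI := Ideal.Quotient.field p
  haveI : FaithfulSMul G B := IsGaloisGroup.faithful (G := G) (A := A) (B := B)
  have hPI : P ≤ I := fun σ hσ b => Ideal.pow_le_self two_ne_zero (hσ.2 b)
  have hID : I ≤ D := Ideal.inertia_le_stabilizer m
  have hsq : ∀ {g : G}, g ∈ D → ∀ x ∈ m ^ 2, g • x ∈ m ^ 2 := by
    intro g hg x hx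
    refine Submodule.pow_induction_on_left' (C := fun n x _ => g • x ∈ m ^ n) m
      (fun r => by simp) (fun x y i _ _ hx hy => by rw [smul_add]; exact add_mem hx hy)
      (fun x hx i y _ hy => ?_) hx
    rw [smul_mul', pow_succ']
    refine Ideal.mul_mem_mul ?_ hy
    have := (Ideal.smul_mem_pointwise_smul_iff (a := g)).2 hx
    rwa [show g • m = m from hg] at this
  have hPn : (P.subgroupOf D).Normal := by
    refine (Subgroup.normal_subgroupOf_iff inf_le_left).mpr fun σ g hσ hg => ⟨?_, fun b => ?_⟩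
    · show g * σ * g⁻¹ ∈ D
      exact mul_mem (mul_mem hg hσ.1) (inv_mem hg)
    · have := hsq hg _ (hσ.2 (g⁻¹ • b))
      rw [smul_sub, smul_inv_smul] at this
      simpa [mul_smul] using this
  have hchar : ∀ q : ℕ, CharP (A ⧸ p) q → CharP (B ⧸ m) q := fun q _ =>
    charP_of_injective_algebraMap (algebraMap (A ⧸ p) (B ⧸ m)).injective q
  have hPpow : ∀ σ : G, σ ∈ P → ∀ n : ℕ, σ ^ n = 1 → (n : B ⧸ m) ≠ 0 → σ = 1 := fun σ hσ n h1 h2 =>
    eq_one_of_pow_eq_one m hm hσ.2 h1 h2
  have hPp : ∀ q : ℕ, q.Prime → CharP (B ⧸ m) q → IsPGroup q P := by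
    intro q hq _ ⟨σ, hσ⟩
    obtain ⟨k, n, hn, hord⟩ := Nat.exists_eq_pow_mul_and_not_dvd (orderOf_pos σ).ne' q hq.ne_one
    refine ⟨k, Subtype.ext ?_⟩
    rw [SubgroupClass.coe_pow, Subgroup.coe_one]
    refine hPpow _ (pow_mem hσ _) n ?_ fun h => hn ((CharP.cast_eq_zero_iff (B ⧸ m) q n).1 h)
    rw [← pow_mul, ← hord, pow_orderOf_eq_one]
  have hP0 : CharZero (B ⧸ m) → P = ⊥ := fun _ => (Subgroup.eq_bot_iff_forall P).2 fun σ hσ =>
    hPpow σ hσ (orderOf σ) (pow_orderOf_eq_one σ) (Nat.cast_ne_zero.2 (orderOf_pos σ).ne')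
  refine ⟨hPI, hID, hPn, fun q hq hc => hPp q hq (hchar q hc), fun h => hP0 (charZero_of_injective_algebraMap (algebraMap (A ⧸ p) (B ⧸ m)).injective), ?_⟩
  intro hn
  obtain ⟨π, hπ, hπ2⟩ := exists_unif m hm
  obtain ⟨θ, hθ⟩ := exists_theta (G := G) m hπ hπ2 hm
  have hker : θ.ker = P.subgroupOf I := by
    ext σ
    rw [MonoidHom.mem_ker, hθ, Subgroup.mem_subgroupOf]
    exact ⟨fun h => ⟨hID σ.2, mem_inertia_sq m p hm hπ hπ2 σ.2 h⟩, fun h => h.2 π⟩
  let eqv : I ⧸ P.subgroupOf I ≃* θ.range :=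
    (QuotientGroup.quotientMulEquivOfEq hker.symm).trans (QuotientGroup.quotientKerEquivRange θ)
  haveI : Finite θ.range := Finite.of_equiv _ eqv.toEquiv
  have hcard : e = Nat.card P * Nat.card θ.range := by
    have h := Subgroup.card_eq_card_quotient_mul_card_subgroup (P.subgroupOf I)
    rw [card_inertia m p, Nat.card_congr eqv.toEquiv,
      Nat.card_congr (Subgroup.subgroupOfEquivOfLe hPI).toEquiv] at h
    rw [mul_comm]
    exact h
  have hprime : ∀ q : ℕ, q.Prime → CharP (B ⧸ m) q → ¬ q ∣ Nat.card θ.range := by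
    intro q hq _ hdvd
    haveI := Fact.mk hq
    obtain ⟨x, hx⟩ := exists_prime_orderOf_dvd_card' q hdvd
    haveI := ExpChar.prime (R := B ⧸ m) hq
    have h1 : ((x : (B ⧸ m)ˣ) : B ⧸ m) ^ q = 1 := by
      rw [← Units.val_pow_eq_pow_val, ← SubgroupClass.coe_pow, ← hx, pow_orderOf_eq_one]; rfl
    have h2 : x = 1 := Subtype.ext (Units.ext (frobenius_inj (B ⧸ m) q (by simpa [frobenius_def] using h1)))
    rw [h2, orderOf_one] at hx
    exact hq.ne_one hx.symm
  have hroots : θ.range = rootsOfUnity e (B ⧸ m) := by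
    have hn0 : Nat.card θ.range ≠ 0 := Nat.card_pos.ne'
    haveI : NeZero (Nat.card θ.range) := ⟨hn0⟩
    have heq : θ.range = rootsOfUnity (Nat.card θ.range) (B ⧸ m) := by
      refine Subgroup.eq_of_le_of_card_ge (fun x hx => ?_) (card_rootsOfUnity _ _)
      rw [mem_rootsOfUnity]
      have := pow_card_eq_one' (x := (⟨x, hx⟩ : θ.range))
      exact congrArg Subtype.val this
    refine le_antisymm (fun x hx => ?_) (fun x hx => ?_)
    · rw [heq, mem_rootsOfUnity] at hx
      rw [mem_rootsOfUnity, hcard, mul_comm, pow_mul, hx, one_pow]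
    · rw [heq, mem_rootsOfUnity]
      rw [mem_rootsOfUnity, hcard] at hx
      rcases CharP.exists (B ⧸ m) with ⟨q, hq⟩
      rcases CharP.char_is_prime_or_zero (B ⧸ m) q with hq' | rfl
      · haveI := Fact.mk hq'
        obtain ⟨k, hk⟩ := IsPGroup.iff_card.1 (hPp q hq' hq)
        haveI := ExpChar.prime (R := B ⧸ m) hq'
        rw [hk, mul_comm, pow_mul] at hx
        refine Units.ext (iterateFrobenius_inj (B ⧸ m) q k ?_)
        rw [iterateFrobenius_def, iterateFrobenius_def, Units.val_one, one_pow, ← Units.val_pow_eq_pow_val, hx,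
          Units.val_one]
      · haveI : CharZero (B ⧸ m) := CharP.charP_to_charZero (B ⧸ m)
        rw [hP0 inferInstance, Subgroup.card_bot, one_mul] at hx
        exact hx
  refine ⟨?_, fun q hq hc => ?_, fun h => ?_, ⟨eqv.trans (MulEquiv.subgroupCongr hroots)⟩⟩
  · haveI : IsCyclic θ.range := inferInstance
    exact isCyclic_of_surjective eqv.symm.toMonoidHom eqv.symm.surjective
  · haveI := Fact.mk hq
    haveI := hchar q hc
    obtain ⟨k, hk⟩ := IsPGroup.iff_card.1 (hPp q hq inferInstance)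
    have hnd := hprime q hq inferInstance
    have hn0 : Nat.card θ.range ≠ 0 := Nat.card_pos.ne'
    have hf : e.factorization q = k := by
      rw [hcard, hk, Nat.factorization_mul (pow_pos hq.pos k).ne' hn0, Finsupp.add_apply,
        Nat.Prime.factorization_pow hq, Finsupp.single_eq_same, Nat.factorization_eq_zero_of_not_dvd hnd,
        add_zero]
    rw [hf, Nat.card_congr eqv.toEquiv]
    rw [hcard, hk, Nat.mul_div_cancel_left _ (pow_pos hq.pos k)]
  · haveI : CharZero (B ⧸ m) := charZero_of_injective_algebraMap (algebraMap (A ⧸ p) (B ⧸ m)).injective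
    rw [hcard, Nat.card_congr eqv.toEquiv, hP0 inferInstance, Subgroup.card_bot, one_mul]

end Groth.Agent.WildInertiaLib
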